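import Groth.Prelude.Def_Flat
import Mathlib.Topology.KrullDimension
import Mathlib.Topology.NoetherianSpace

/-!
# Combinatorial dimension of topological spaces
-/

set_option autoImplicit false
universe u

open Topology TopologicalSpace Set Order

namespace Groth.Agent.TopDimLib

variable {X : Type u} [TopologicalSpace X]

theorem dim_le {c : WithBot ℕ∞}
    (h : ∀ p : LTSeries (IrreducibleCloseds X), (p.length : WithBot ℕ∞) ≤ c) :
    topologicalKrullDim X ≤ c :=
  iSup_le h

theorem head_le {α : Type*} [Preorder α] (p : LTSeries α) (i : Fin (p.length + 1)) :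
    p.head ≤ p i :=
  p.monotone (Fin.zero_le i)

theorem le_last {α : Type*} [Preorder α] (p : LTSeries α) (i : Fin (p.length + 1)) :
    p i ≤ p.last :=
  p.monotone (Fin.le_last i)

theorem isPreirreducible_preimage_val {Y S : Set X} (hS : IsPreirreducible S) (hsub : S ⊆ Y) :
    IsPreirreducible ((Subtype.val : Y → X) ⁻¹' S) := by
  rintro _ _ ⟨U, hU, rfl⟩ ⟨V, hV, rfl⟩ ⟨a, ha, ha'⟩ ⟨b, hb, hb'⟩
  obtain ⟨z, hz, hzU, hzV⟩ := hS U V hU hV ⟨a, ha, ha'⟩ ⟨b, hb, hb'⟩
  exact ⟨⟨z, hsub hz⟩, hz, hzU, hzV⟩

/-- A chain of irreducible closed subsets contained in `Y` is a chain of `Y`. -/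
theorem length_le_of_last_subset (p : LTSeries (IrreducibleCloseds X)) {Y : Set X}
    (h : (p.last : Set X) ⊆ Y) : (p.length : WithBot ℕ∞) ≤ topologicalKrullDim Y := by
  have hsub : ∀ i, (p i : Set X) ⊆ Y := fun i => Subset.trans (le_last p i) h
  let f : Fin (p.length + 1) → IrreducibleCloseds Y := fun i => ⟨Subtype.val ⁻¹' (p i : Set X),
    ⟨by obtain ⟨x, hx⟩ := (p i).isIrreducible.nonempty; exact ⟨⟨x, hsub i hx⟩, hx⟩,
      isPreirreducible_preimage_val (p i).isIrreducible.2 (hsub i)⟩,
    (p i).isClosed.preimage continuous_subtype_val⟩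
  let q : LTSeries (IrreducibleCloseds Y) :=
    { length := p.length
      toFun := f
      step := fun i => by
        have hlt : (p i.castSucc : Set X) ⊂ p i.succ := p.step i
        obtain ⟨x, hx, hx'⟩ := exists_of_ssubset hlt
        show f i.castSucc < f i.succ
        refine lt_of_le_not_ge ?_ fun hge => hx' ?_
        · show (f i.castSucc : Set Y) ⊆ f i.succ
          exact fun z hz => hlt.subset hz
        · exact (show (f i.succ : Set Y) ⊆ f i.castSucc from hge)
            (show (⟨x, hsub _ hx⟩ : Y) ∈ (f i.succ : Set Y) from hx) }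
  exact LTSeries.length_le_krullDim q

/-- A chain whose bottom meets an open `U` is a chain of `U`. -/
theorem length_le_of_head_inter (p : LTSeries (IrreducibleCloseds X)) {U : Set X} (hU : IsOpen U)
    (h : ((p.head : Set X) ∩ U).Nonempty) : (p.length : WithBot ℕ∞) ≤ topologicalKrullDim U := by
  let e := IrreducibleCloseds.orderIsoOfIsOpenEmbedding _ hU.isOpenEmbedding_subtypeVal
  have hne : ∀ i, ((Subtype.val : U → X) ⁻¹' (p i : Set X)).Nonempty := fun i =>
    let ⟨x, hx, hxU⟩ := h; ⟨⟨x, hxU⟩, head_le p i hx⟩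
  let q : LTSeries (IrreducibleCloseds U) :=
    { length := p.length
      toFun := fun i => e.symm ⟨p i, hne i⟩
      step := fun i => e.symm.strictMono (p.step i) }
  exact LTSeries.length_le_krullDim q

theorem exists_subset_of_subset_iUnion {ι : Type*} [Finite ι] {Y : ι → Set X}
    (hY : ∀ i, IsClosed (Y i)) {T : Set X} (hT : IsIrreducible T) (h : T ⊆ ⋃ i, Y i) :
    ∃ i, T ⊆ Y i := by
  classical
  have := Fintype.ofFinite ι
  obtain ⟨z, hz, hsub⟩ := isIrreducible_iff_sUnion_isClosed.1 hT (Finset.univ.image Y)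
    (by simp only [Finset.mem_image]; rintro _ ⟨i, _, rfl⟩; exact hY i)
    (h.trans_eq (by simp [sUnion_range]))
  obtain ⟨i, -, rfl⟩ := Finset.mem_image.1 hz
  exact ⟨i, hsub⟩

theorem dim_le_iSup_of_finite_closed_cover {ι : Type*} [Finite ι] {Y : ι → Set X}
    (hY : ∀ i, IsClosed (Y i)) (hcov : ⋃ i, Y i = univ) :
    topologicalKrullDim X ≤ ⨆ i, topologicalKrullDim (Y i) :=
  dim_le fun p =>
    let ⟨i, hi⟩ := exists_subset_of_subset_iUnion hY p.last.isIrreducible (by simp [hcov])
    (length_le_of_last_subset p hi).trans (le_iSup (fun i => topologicalKrullDim (Y i)) i)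

theorem dim_subtype_mono {Y Z : Set X} (h : Y ⊆ Z) :
    topologicalKrullDim Y ≤ topologicalKrullDim Z :=
  (Topology.IsInducing.subtypeVal.of_comp_iff.1
    (show IsInducing (Subtype.val ∘ inclusion h) from IsInducing.subtypeVal)).topologicalKrullDim_le

theorem localDim_le {U : Opens X} {x : X} (hx : x ∈ U) :
    FlatMor.localDim X x ≤ topologicalKrullDim (U : Set X) :=
  iInf_le (fun U : {U : Opens X // x ∈ U} => topologicalKrullDim (U.1 : Set X)) ⟨U, hx⟩

theorem localDim_le_dim (x : X) : FlatMor.localDim X x ≤ topologicalKrullDim X :=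
  (localDim_le (U := ⊤) (x := x) trivial).trans (topologicalKrullDim_subspace_le X _)

theorem exists_localDim_eq (x : X) :
    ∃ U : Opens X, x ∈ U ∧ topologicalKrullDim (U : Set X) = FlatMor.localDim X x := by
  have : Nonempty {U : Opens X // x ∈ U} := ⟨⟨⊤, trivial⟩⟩
  obtain ⟨⟨U, hx⟩, hU⟩ := ciInf_mem fun U : {U : Opens X // x ∈ U} => topologicalKrullDim (U.1 : Set X)
  exact ⟨U, hx, hU⟩

theorem length_le_localDim (p : LTSeries (IrreducibleCloseds X)) {x : X}
    (hx : x ∈ (p.head : Set X)) : (p.length : WithBot ℕ∞) ≤ FlatMor.localDim X x :=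
  le_iInf fun U => length_le_of_head_inter p U.1.isOpen ⟨x, hx, U.2⟩

theorem exists_closedPoint_mem [NoetherianSpace X] [T0Space X] {C : Set X} (hC : IsClosed C)
    (hne : C.Nonempty) : ∃ x ∈ C, IsClosed ({x} : Set X) :=
  hC.exists_closed_singleton hne

theorem finite_discrete_of_forall_length_zero [NoetherianSpace X] [T0Space X]
    (h : ∀ p : LTSeries (IrreducibleCloseds X), p.length = 0) : Finite X ∧ DiscreteTopology X := by
  have hmax : ∀ S T : IrreducibleCloseds X, S ≤ T → S = T := fun S T hST =>
    hST.eq_or_lt.resolve_right fun hlt => by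
      exact Nat.succ_ne_zero _ (h ((RelSeries.singleton _ S).snoc T hlt))
  let cl : X → IrreducibleCloseds X := fun x =>
    ⟨closure {x}, isIrreducible_singleton.closure, isClosed_closure⟩
  have heq : ∀ (x : X) (T : IrreducibleCloseds X), x ∈ (T : Set X) → (T : Set X) = closure {x} :=
    fun x T hx => congrArg SetLike.coe
      (hmax (cl x) T (closure_minimal (singleton_subset_iff.2 hx) T.isClosed)).symm
  have hclosed : ∀ x : X, IsClosed ({x} : Set X) := by
    intro x
    refine closure_subset_iff_isClosed.1 fun y hy => ?_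
    exact (inseparable_iff_closure_eq.2 (heq y (cl x) hy).symm).eq
  have : Finite X := by
    rw [← finite_univ_iff]
    have hc := (NoetherianSpace.finite_irreducibleComponents (α := X)).biUnion
      (t := fun Z => Z) fun Z hZ => by
        obtain ⟨x, hx⟩ := hZ.1.nonempty
        have : Z = {x} := (heq x ⟨Z, hZ.1, isClosed_of_mem_irreducibleComponents Z hZ⟩ hx).trans
          (hclosed x).closure_eq
        exact this ▸ finite_singleton x
    exact hc.subset fun x _ => mem_biUnion
      (irreducibleComponent_mem_irreducibleComponents x) mem_irreducibleComponent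
  refine ⟨this, discreteTopology_iff_forall_isOpen.2 fun s => isClosed_compl_iff.1 ?_⟩
  rw [← sᶜ.biUnion_of_singleton]
  exact sᶜ.toFinite.isClosed_biUnion fun x _ => hclosed x

theorem length_zero_of_dim_lt_one (h : topologicalKrullDim X < 1)
    (p : LTSeries (IrreducibleCloseds X)) : p.length = 0 := by
  have := (LTSeries.length_le_krullDim p).trans_lt h
  have := (Nat.cast_lt (α := WithBot ℕ∞)).1 (this.trans_eq Nat.cast_one.symm)
  omega

theorem dim_eq_zero_iff [NoetherianSpace X] [T0Space X] [Nonempty X] :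
    topologicalKrullDim X = 0 ↔ Finite X ∧ DiscreteTopology X := by
  refine ⟨fun h => finite_discrete_of_forall_length_zero (length_zero_of_dim_lt_one
    (h ▸ zero_lt_one)), fun ⟨_, _⟩ => le_antisymm (topologicalKrullDim_zero_of_discreteTopology X) ?_⟩
  have : Nonempty (IrreducibleCloseds X) :=
    ⟨⟨closure {Classical.arbitrary X}, isIrreducible_singleton.closure, isClosed_closure⟩⟩
  exact krullDim_nonneg

end Groth.Agent.TopDimLib
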