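import Groth.Agent.TopDimLib.Basic
import Mathlib.Topology.Sober
import Mathlib.Topology.DiscreteSubset
import Mathlib.Topology.Maps.Basic

/-!
# Dimension is preserved by open generalizing maps with discrete fibres
-/

set_option autoImplicit false
universe u

open Topology TopologicalSpace Set Order

namespace Groth.Agent.TopDimLib

theorem eq_of_specializes_of_isDiscrete {Z : Type*} [TopologicalSpace Z] {s : Set Z}
    (hs : IsDiscrete s) {a b : Z} (ha : a ∈ s) (hb : b ∈ s) (h : a ⤳ b) : a = b := by
  have := hs.to_subtype
  have h' : (⟨a, ha⟩ : s) ⤳ ⟨b, hb⟩ := (IsInducing.subtypeVal.specializes_iff).1 h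
  exact congrArg Subtype.val h'.eq

section

attribute [local instance] specializationOrder

variable {X Y : Type u} [TopologicalSpace X] [TopologicalSpace Y] [T0Space X] [T0Space Y]

theorem exists_lift_series {f : X → Y} (hsurj : Function.Surjective f) (hgen : GeneralizingMap f) :
    ∀ (n : ℕ) (p : LTSeries Y), p.length = n →
      ∃ q : LTSeries X, q.length = n ∧ f q.last = p.last := by
  intro n
  induction n with
  | zero =>
      intro p hp
      obtain ⟨x, hx⟩ := hsurj p.last
      exact ⟨RelSeries.singleton _ x, rfl, hx⟩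
  | succ n ih =>
      intro p hp
      have hne : p.length ≠ 0 := by omega
      obtain ⟨q, hq, hqlast⟩ := ih p.eraseLast (by simp [hp])
      have hstep : p.eraseLast.last < p.last := p.eraseLast_last_rel_last hne
      have hsp : p.last ⤳ f q.last := by
        rw [hqlast]
        exact hstep.le
      obtain ⟨a, ha, hfa⟩ := hgen hsp
      have hlt : q.last < a := by
        refine lt_of_le_of_ne ha fun he => hstep.ne ?_
        rw [← hqlast, he, hfa]
      refine ⟨q.snoc a hlt, by simp [hq], ?_⟩
      simp [RelSeries.last_snoc, hfa]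

/-- A continuous generalizing surjection with discrete fibres preserves the dimension. -/
theorem dim_eq_of_surjective [QuasiSober X] [QuasiSober Y] {f : X → Y} (hcont : Continuous f)
    (hsurj : Function.Surjective f) (hgen : GeneralizingMap f)
    (hdisc : ∀ y, IsDiscrete (f ⁻¹' {y})) :
    topologicalKrullDim Y = topologicalKrullDim X := by
  show krullDim (IrreducibleCloseds Y) = krullDim (IrreducibleCloseds X)
  rw [krullDim_eq_of_orderIso irreducibleSetEquivPoints,
    krullDim_eq_of_orderIso (irreducibleSetEquivPoints (α := X))]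
  apply le_antisymm
  · refine iSup_le fun p => ?_
    obtain ⟨q, hq, -⟩ := exists_lift_series hsurj hgen p.length p rfl
    exact hq ▸ LTSeries.length_le_krullDim q
  · refine krullDim_le_of_strictMono f fun a b hab => ?_
    have hsp : b ⤳ a := hab.le
    refine lt_of_le_of_ne (hsp.map hcont) fun he => hab.ne ?_
    exact (eq_of_specializes_of_isDiscrete (hdisc (f a)) he.symm rfl hsp).symm

end

variable {X Y : Type u} [TopologicalSpace X] [TopologicalSpace Y]

/-- An open continuous generalizing map with discrete fibres preserves the dimension of opens. -/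
theorem dim_image_eq [QuasiSober X] [T0Space X] [QuasiSober Y] [T0Space Y] {f : X → Y}
    (hcont : Continuous f) (hopen : IsOpenMap f) (hgen : GeneralizingMap f)
    (hdisc : ∀ y, IsDiscrete (f ⁻¹' {y})) {U : Set X} (hU : IsOpen U) :
    topologicalKrullDim (f '' U) = topologicalKrullDim U := by
  have := hU.isOpenEmbedding_subtypeVal.quasiSober
  have := (hopen U hU).isOpenEmbedding_subtypeVal.quasiSober
  refine dim_eq_of_surjective (f := fun x : U => (⟨f x.1, x.1, x.2, rfl⟩ : f '' U))
    ((hcont.comp continuous_subtype_val).subtype_mk _) ?_ ?_ ?_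
  · rintro ⟨_, x, hx, rfl⟩
    exact ⟨⟨x, hx⟩, rfl⟩
  · intro x y h
    obtain ⟨a, ha, hfa⟩ := hgen (IsInducing.subtypeVal.specializes_iff.2 h)
    exact ⟨⟨a, ha.mem_open hU x.2⟩, IsInducing.subtypeVal.specializes_iff.1 ha, Subtype.ext hfa⟩
  · intro y
    convert! (hdisc y.1).preimage continuous_subtype_val.continuousOn Subtype.val_injective
    ext x
    exact Subtype.ext_iff

theorem localDim_image_eq [QuasiSober X] [T0Space X] [QuasiSober Y] [T0Space Y] {f : X → Y}
    (hcont : Continuous f) (hopen : IsOpenMap f) (hgen : GeneralizingMap f)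
    (hdisc : ∀ y, IsDiscrete (f ⁻¹' {y})) (x : X) :
    FlatMor.localDim X x = FlatMor.localDim Y (f x) := by
  apply le_antisymm
  · refine le_iInf fun W => ?_
    let U : Opens X := ⟨f ⁻¹' (W.1 : Set Y), W.1.isOpen.preimage hcont⟩
    refine (localDim_le (U := U) (show f x ∈ W.1 from W.2)).trans ?_
    rw [← dim_image_eq hcont hopen hgen hdisc U.isOpen]
    exact dim_subtype_mono (image_preimage_subset _ _)
  · refine le_iInf fun U => ?_
    let W : Opens Y := ⟨f '' (U.1 : Set X), hopen _ U.1.isOpen⟩
    refine (localDim_le (U := W) ⟨x, U.2, rfl⟩).trans ?_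
    rw [← dim_image_eq hcont hopen hgen hdisc U.1.isOpen]
    exact le_rfl

end Groth.Agent.TopDimLib
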